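import Groth.Agent.Lib.UnitsRos.Scheme
import Groth.Agent.Lib.RedSep.Basic

/-!
# Units on a product of connected reduced schemes over an algebraically closed field
-/

set_option autoImplicit false
set_option linter.style.haveILetI false
set_option backward.isDefEq.respectTransparency.types false
universe u

open CategoryTheory Limits MonoidalCategory CartesianMonoidalCategory MonObj AlgebraicGeometry Opposite
open TopologicalSpace Groth.Agent.UnitsRos

noncomputable section

namespace Groth.Agent.UnitsAxes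

variable {k : Type u} [Field k] [IsAlgClosed k] {X Y : Over (Spec (CommRingCat.of k))}

/-- A property of rational points constant on irreducible components of a connected scheme holds
everywhere as soon as it holds at one point. -/
theorem forall_point [LocallyOfFiniteType X.hom] [QuasiCompact X.hom] [ConnectedSpace X.left]
    (P : (𝟙_ (Over (Spec (CommRingCat.of k))) ⟶ X) → Prop)
    (hP : ∀ Z ∈ irreducibleComponents X.left, ∀ x x' : 𝟙_ (Over (Spec (CommRingCat.of k))) ⟶ X,
      x.left.base (IsLocalRing.closedPoint k) ∈ Z → x'.left.base (IsLocalRing.closedPoint k) ∈ Z →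
        P x → P x')
    (x₀ : 𝟙_ (Over (Spec (CommRingCat.of k))) ⟶ X) (h₀ : P x₀)
    (x : 𝟙_ (Over (Spec (CommRingCat.of k))) ⟶ X) : P x := by
  classical
  haveI : IsLocallyNoetherian X.left := LocallyOfFiniteType.isLocallyNoetherian X.hom
  haveI : CompactSpace X.left := QuasiCompact.compactSpace_of_compactSpace X.hom
  haveI : IsNoetherian X.left := { }
  haveI : JacobsonSpace X.left := LocallyOfFiniteType.jacobsonSpace X.hom
  have hfin : (irreducibleComponents X.left).Finite := NoetherianSpace.finite_irreducibleComponents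
  have hmem : ∀ p : X.left, ∃ Z ∈ irreducibleComponents X.left, p ∈ Z := fun p =>
    ⟨irreducibleComponent p, irreducibleComponent_mem_irreducibleComponents p, mem_irreducibleComponent⟩
  let G := {Z ∈ irreducibleComponents X.left |
    ∀ q : 𝟙_ (Over (Spec (CommRingCat.of k))) ⟶ X, q.left.base (IsLocalRing.closedPoint k) ∈ Z → P q}
  obtain ⟨Z₀, hZ₀, hx₀⟩ := hmem (x₀.left.base (IsLocalRing.closedPoint k))
  have hG₀ : Z₀ ∈ G := ⟨hZ₀, fun q hq => hP Z₀ hZ₀ x₀ q hx₀ hq h₀⟩
  have hA : IsClosed (⋃₀ G) := by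
    rw [Set.sUnion_eq_biUnion]
    exact (hfin.subset fun Z h => h.1).isClosed_biUnion
      fun Z h => isClosed_of_mem_irreducibleComponents Z h.1
  have hB : IsClosed (⋃₀ (irreducibleComponents X.left \ G)) := by
    rw [Set.sUnion_eq_biUnion]
    exact (hfin.subset Set.sdiff_subset).isClosed_biUnion
      fun Z h => isClosed_of_mem_irreducibleComponents Z h.1
  have hdisj : (⋃₀ G) ∩ (⋃₀ (irreducibleComponents X.left \ G)) = ∅ := by
    by_contra hne
    obtain ⟨p, hp, hpc⟩ := nonempty_inter_closedPoints (Set.nonempty_iff_ne_empty.2 hne)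
      (hA.inter hB).isLocallyClosed
    obtain ⟨⟨Z, hZ, hpZ⟩, Z', ⟨hZ', hZ'G⟩, hpZ'⟩ := hp
    let q : 𝟙_ (Over (Spec (CommRingCat.of k))) ⟶ X :=
      Over.homMk (pointOfClosedPoint X.hom p hpc) (pointOfClosedPoint_comp _ _ _)
    have hq : q.left.base (IsLocalRing.closedPoint k) = p :=
      pointOfClosedPoint_apply X.hom p hpc (IsLocalRing.closedPoint k)
    have hPq : P q := hZ.2 q (hq.symm ▸ hpZ)
    exact hZ'G ⟨hZ', fun q' hq' => hP Z' hZ' q q' (hq.symm ▸ hpZ') hq' hPq⟩
  have huniv : (⋃₀ G) = Set.univ := by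
    refine IsClopen.eq_univ ⟨hA, ?_⟩ ⟨_, Z₀, hG₀, hx₀⟩
    have : (⋃₀ G) = (⋃₀ (irreducibleComponents X.left \ G))ᶜ := by
      refine Set.Subset.antisymm (fun p hp hp' => ?_) (fun p hp => ?_)
      · exact (hdisj ▸ ⟨hp, hp'⟩ : p ∈ (∅ : Set X.left))
      · obtain ⟨Z, hZ, hpZ⟩ := hmem p
        by_cases hG : Z ∈ G
        · exact ⟨Z, hG, hpZ⟩
        · exact absurd ⟨Z, ⟨hZ, hG⟩, hpZ⟩ hp
    rw [this]
    exact hB.isOpen_compl
  obtain ⟨Z, hZ, hxZ⟩ := huniv ▸ Set.mem_univ (x.left.base (IsLocalRing.closedPoint k))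
  exact hZ.2 x hxZ

omit [IsAlgClosed k] in
/-- The reduced subscheme on an irreducible component, receiving its rational points. -/
theorem exists_component [LocallyOfFiniteType X.hom] {Z : Set X.left}
    (hZ : Z ∈ irreducibleComponents X.left) :
    ∃ (W : Over (Spec (CommRingCat.of k))) (i : W ⟶ X), IsIntegral W.left ∧ LocallyOfFiniteType W.hom ∧
      ∀ q : 𝟙_ (Over (Spec (CommRingCat.of k))) ⟶ X, q.left.base (IsLocalRing.closedPoint k) ∈ Z →
        ∃ q', q' ≫ i = q := by
  let C : Closeds X.left := ⟨Z, isClosed_of_mem_irreducibleComponents Z hZ⟩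
  let I := Scheme.IdealSheafData.vanishingIdeal C
  have hrange : Set.range I.subschemeι = Z := by
    rw [Scheme.IdealSheafData.range_subschemeι]
    simp only [I, Scheme.IdealSheafData.coe_support_vanishingIdeal]
    rfl
  haveI : IsReduced I.subscheme := RedSepLib.isReduced_vanishingIdeal_subscheme C
  haveI : IrreducibleSpace I.subscheme := by
    have e := I.subschemeι.isEmbedding.toHomeomorph
    have hZi : IsIrreducible (Set.range I.subschemeι) := hrange ▸ hZ.1
    haveI := Subtype.irreducibleSpace hZi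
    exact e.irreducibleSpace_iff.2 inferInstance
  refine ⟨Over.mk (I.subschemeι ≫ X.hom), Over.homMk I.subschemeι rfl,
    isIntegral_of_irreducibleSpace_of_isReduced I.subscheme, inferInstanceAs (LocallyOfFiniteType (_ ≫ _)),
    fun q hq => ?_⟩
  haveI : IsReduced (𝟙_ (Over (Spec (CommRingCat.of k)))).left :=
    inferInstanceAs (IsReduced (Spec (CommRingCat.of k)))
  obtain ⟨g, hg⟩ := RedSepLib.exists_lift_of_range_subset q.left I.subschemeι (by
    rintro _ ⟨z, rfl⟩
    obtain rfl : z = IsLocalRing.closedPoint k := Subsingleton.elim (α := Spec (CommRingCat.of k)) _ _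
    rw [hrange]
    exact hq)
  exact ⟨Over.homMk g (by simp only [Over.mk_hom]; rw [reassoc_of% hg]; exact Over.w q),
    Over.OverMorphism.ext hg⟩

/-- **Units trivial on both axes are trivial at all rational points.** -/
theorem val_eq_one [LocallyOfFiniteType X.hom] [QuasiCompact X.hom] [ConnectedSpace X.left]
    [LocallyOfFiniteType Y.hom] [QuasiCompact Y.hom] [ConnectedSpace Y.left]
    {f : Γ((X ⊗ Y).left, ⊤)} (hf : IsUnit f)
    (eX : 𝟙_ (Over (Spec (CommRingCat.of k))) ⟶ X) (eY : 𝟙_ (Over (Spec (CommRingCat.of k))) ⟶ Y)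
    (hX : ∀ x, val (lift x eY) f = 1) (hY : ∀ y, val (lift eX y) f = 1)
    (x : 𝟙_ (Over (Spec (CommRingCat.of k))) ⟶ X) (y : 𝟙_ (Over (Spec (CommRingCat.of k))) ⟶ Y) :
    val (lift x y) f = 1 := by
  refine forall_point (X := Y) (fun y => ∀ x, val (lift x y) f = 1)
    (fun W hW y₀ y hy₀ hy h₀ => ?_) eY hX y x
  refine forall_point (X := X) (fun x => val (lift x y) f = 1)
    (fun Z hZ x₀ x hx₀ hx h => ?_) eX (hY y)
  obtain ⟨Z', i, _, _, hi⟩ := exists_component hZ
  obtain ⟨W', j, _, _, hj⟩ := exists_component hW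
  obtain ⟨a, rfl⟩ := hi x hx
  obtain ⟨a', rfl⟩ := hi x₀ hx₀
  obtain ⟨b, rfl⟩ := hj y hy
  obtain ⟨b', rfl⟩ := hj y₀ hy₀
  have key : ∀ (c : 𝟙_ _ ⟶ Z') (d : 𝟙_ _ ⟶ W'),
      val (lift c d) ((i ⊗ₘ j).left.appTop f) = val (lift (c ≫ i) (d ≫ j)) f := fun c d => by
    rw [val, val, ← appTop_comp, lift_map]
  have h1 := exchange (hf.map (i ⊗ₘ j).left.appTop.hom) a a' b b'
  rw [key, key, key, key, h, h₀, h₀, _root_.mul_one, _root_.one_mul] at h1
  exact h1

/-- Global functions on a reduced scheme agreeing at the rational points are equal. -/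
theorem eq_of_forall_val [LocallyOfFiniteType X.hom] [IsReduced X.left] {s t : Γ(X.left, ⊤)}
    (h : ∀ q : 𝟙_ (Over (Spec (CommRingCat.of k))) ⟶ X, val q s = val q t) : s = t := by
  suffices heq : fn s = fn t by rw [← ev_fn s, ← ev_fn t, heq]
  haveI : LocallyOfFiniteType (CoactBr.sp k (Polynomial k)).hom := by
    refine (HasRingHomProperty.Spec_iff (P := @LocallyOfFiniteType)).2 ?_
    exact (RingHom.finiteType_algebraMap (A := k) (B := Polynomial k)).2 inferInstance
  haveI : IsSeparated (CoactBr.sp k (Polynomial k)).hom :=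
    inferInstanceAs (IsSeparated (Spec.map (CommRingCat.ofHom (algebraMap k (Polynomial k)))))
  haveI : LocallyOfFiniteType ((fn s).left ≫ (CoactBr.sp k (Polynomial k)).hom) := by
    rw [Over.w]; infer_instance
  refine Over.OverMorphism.ext (ext_of_apply_eq (CoactBr.sp k (Polynomial k)).hom Set.univ
    isClosed_univ.isLocallyClosed dense_univ (fun p _ hp => ?_) (by rw [Over.w, Over.w]))
  let q : 𝟙_ (Over (Spec (CommRingCat.of k))) ⟶ X :=
    Over.homMk (pointOfClosedPoint X.hom p hp) (pointOfClosedPoint_comp _ _ _)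
  have hq : q.left.base (IsLocalRing.closedPoint k) = p :=
    pointOfClosedPoint_apply X.hom p hp (IsLocalRing.closedPoint k)
  have h1 := congrArg (fun m => m.left.base (IsLocalRing.closedPoint k)) (comp_fn_eq q (h q))
  simp only [Over.comp_left, Scheme.Hom.comp_apply] at h1
  rw [hq] at h1
  exact h1

end Groth.Agent.UnitsAxes
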