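import Groth.Agent.Lib.UnitsAxes.Closed
import Groth.Prelude.Def_GmPts
import Mathlib.AlgebraicGeometry.Geometrically.Reduced
import Mathlib.AlgebraicGeometry.Geometrically.Connected
import Mathlib.AlgebraicGeometry.Morphisms.Flat

/-!
# Units on a product trivial on both axes
-/

set_option autoImplicit false
set_option linter.style.haveILetI false
set_option backward.isDefEq.respectTransparency.types false
universe u

open CategoryTheory Limits MonoidalCategory CartesianMonoidalCategory MonObj AlgebraicGeometry Opposite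
open Groth.Agent.UnitsRos

noncomputable section

namespace Groth.Agent.UnitsAxes

variable {k : Type u} [Field k]

theorem unit_trivial_of_axes (X Y : Over (Spec (CommRingCat.of k)))
    [LocallyOfFiniteType X.hom] [QuasiCompact X.hom] [GeometricallyReduced X.hom]
    [GeometricallyConnected X.hom] [LocallyOfFiniteType Y.hom] [QuasiCompact Y.hom]
    [GeometricallyReduced Y.hom] [GeometricallyConnected Y.hom]
    (eX : 𝟙_ (Over (Spec (CommRingCat.of k))) ⟶ X) (eY : 𝟙_ (Over (Spec (CommRingCat.of k))) ⟶ Y)
    (u : X ⊗ Y ⟶ Red.Gm (Spec (CommRingCat.of k)))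
    (huX : lift (𝟙 X) (toUnit X ≫ eY) ≫ u = 1) (huY : lift (toUnit Y ≫ eX) (𝟙 Y) ≫ u = 1) :
    u = 1 := by
  let K := AlgebraicClosure k
  let c : Spec (CommRingCat.of K) ⟶ Spec (CommRingCat.of k) :=
    Spec.map (CommRingCat.ofHom (algebraMap k K))
  haveI : Flat c := by
    refine (HasRingHomProperty.Spec_iff (P := @Flat)).2 ?_
    exact RingHom.flat_algebraMap_iff.2 inferInstance
  haveI : Surjective c := ⟨fun p => ⟨IsLocalRing.closedPoint K, Subsingleton.elim (α := Spec (CommRingCat.of k)) _ _⟩⟩
  let X' : Over (Spec (CommRingCat.of K)) := Over.mk (pullback.snd X.hom c)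
  let Y' : Over (Spec (CommRingCat.of K)) := Over.mk (pullback.snd Y.hom c)
  haveI : LocallyOfFiniteType X'.hom := inferInstanceAs (LocallyOfFiniteType (pullback.snd X.hom c))
  haveI : LocallyOfFiniteType Y'.hom := inferInstanceAs (LocallyOfFiniteType (pullback.snd Y.hom c))
  haveI : QuasiCompact X'.hom := inferInstanceAs (QuasiCompact (pullback.snd X.hom c))
  haveI : QuasiCompact Y'.hom := inferInstanceAs (QuasiCompact (pullback.snd Y.hom c))
  haveI : GeometricallyReduced X'.hom := inferInstanceAs (GeometricallyReduced (pullback.snd X.hom c))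
  haveI : GeometricallyReduced Y'.hom := inferInstanceAs (GeometricallyReduced (pullback.snd Y.hom c))
  haveI : GeometricallyConnected X'.hom := inferInstanceAs (GeometricallyConnected (pullback.snd X.hom c))
  haveI : GeometricallyConnected Y'.hom := inferInstanceAs (GeometricallyConnected (pullback.snd Y.hom c))
  haveI : ConnectedSpace X'.left := GeometricallyConnected.connectedSpace_of_subsingleton X'.hom
  haveI : ConnectedSpace Y'.left := GeometricallyConnected.connectedSpace_of_subsingleton Y'.hom
  haveI : IsLocallyNoetherian X'.left := LocallyOfFiniteType.isLocallyNoetherian X'.hom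
  haveI : Flat Y'.hom := inferInstance
  haveI : IsReduced X'.left := GeometricallyReduced.isReduced_of_flat_of_isLocallyNoetherian X'.hom
  haveI : IsReduced (X' ⊗ Y').left := by
    rw [Over.tensorObj_left]
    infer_instance
  haveI : LocallyOfFiniteType (X' ⊗ Y').hom := by
    rw [Over.tensorObj_hom]
    infer_instance
  -- the projection of the product
  let m : pullback X.hom (Y'.hom ≫ c) ⟶ (X ⊗ Y).left :=
    pullback.map X.hom (Y'.hom ≫ c) X.hom Y.hom (𝟙 _) (pullback.fst Y.hom c) (𝟙 _)
      (by simp) (by rw [Category.comp_id]; exact pullback.condition.symm)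
  let π : (X' ⊗ Y').left ⟶ (X ⊗ Y).left := (pullbackLeftPullbackSndIso X.hom c Y'.hom).hom ≫ m
  have hπfst : π ≫ pullback.fst X.hom Y.hom =
      pullback.fst X'.hom Y'.hom ≫ pullback.fst X.hom c := by
    simp only [π, m, Category.assoc, pullback.lift_fst, Category.comp_id]
    exact pullbackLeftPullbackSndIso_hom_fst X.hom c Y'.hom
  have hπsnd : π ≫ pullback.snd X.hom Y.hom =
      pullback.snd X'.hom Y'.hom ≫ pullback.fst Y.hom c := by
    simp only [π, m, Category.assoc, pullback.lift_snd]
    rw [← Category.assoc]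
    exact congrArg (· ≫ _) (pullbackLeftPullbackSndIso_hom_snd X.hom c Y'.hom)
  haveI : Flat m := MorphismProperty.pullbackMap (P := @Flat)
    (i₁ := 𝟙 X.left) (i₂ := pullback.fst Y.hom c) inferInstance inferInstance (by simp) pullback.condition.symm
  haveI : Surjective m := MorphismProperty.pullbackMap (P := @Surjective)
    (i₁ := 𝟙 X.left) (i₂ := pullback.fst Y.hom c) inferInstance inferInstance (by simp) pullback.condition.symm
  haveI : Epi m := Flat.epi_of_flat_of_surjective m
  haveI : Epi π := inferInstanceAs (Epi (_ ≫ m))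
  let Pk : Over (Spec (CommRingCat.of k)) := Over.mk (π ≫ (X ⊗ Y).hom)
  let πk : Pk ⟶ X ⊗ Y := Over.homMk π rfl
  let f : Γ((X' ⊗ Y').left, ⊤) := π.appTop (Red.gmFn u)
  have hf : IsUnit f := (GmPts.isUnit_gmFn u).map π.appTop.hom
  let eX' : 𝟙_ (Over (Spec (CommRingCat.of K))) ⟶ X' :=
    Over.homMk (pullback.lift (c ≫ eX.left) (𝟙 _) (by rw [Category.assoc, Over.w eX]; simp))
      (pullback.lift_snd _ _ _)
  let eY' : 𝟙_ (Over (Spec (CommRingCat.of K))) ⟶ Y' :=
    Over.homMk (pullback.lift (c ≫ eY.left) (𝟙 _) (by rw [Category.assoc, Over.w eY]; simp))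
      (pullback.lift_snd _ _ _)
  have hX : ∀ x, val (lift x eY') f = 1 := fun x => by
    have h0 := congrArg Red.gmFn huX
    rw [GmPts.gmFn_comp, GmPts.gmFn_one] at h0
    have hc : (lift x eY').left ≫ π =
        (x.left ≫ pullback.fst X.hom c) ≫ (lift (𝟙 X) (toUnit X ≫ eY)).left := by
      have hx : x.left ≫ pullback.snd X.hom c = 𝟙 _ := Over.w x
      refine pullback.hom_ext ?_ ?_
      · rw [Category.assoc, hπfst]
        simp
        erw [pullback.lift_fst_assoc, pullback.lift_fst, Category.comp_id]
      · rw [Category.assoc, hπsnd]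
        simp [eY']
        erw [pullback.lift_snd_assoc, pullback.lift_fst, pullback.lift_snd, pullback.condition_assoc,
          reassoc_of% hx]
    have h1 := congrArg (fun g => g.appTop (Red.gmFn u)) hc
    simp only [Scheme.Hom.comp_appTop, CommRingCat.comp_apply] at h1
    rw [h0, map_one, map_one] at h1
    exact h1
  have hY : ∀ y, val (lift eX' y) f = 1 := fun y => by
    have h0 := congrArg Red.gmFn huY
    rw [GmPts.gmFn_comp, GmPts.gmFn_one] at h0
    have hc : (lift eX' y).left ≫ π =
        (y.left ≫ pullback.fst Y.hom c) ≫ (lift (toUnit Y ≫ eX) (𝟙 Y)).left := by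
      have hy : y.left ≫ pullback.snd Y.hom c = 𝟙 _ := Over.w y
      refine pullback.hom_ext ?_ ?_
      · rw [Category.assoc, hπfst]
        simp [eX']
        erw [pullback.lift_fst_assoc, pullback.lift_fst, pullback.lift_fst, pullback.condition_assoc,
          reassoc_of% hy]
      · rw [Category.assoc, hπsnd]
        simp
        erw [pullback.lift_snd_assoc, pullback.lift_snd, Category.comp_id]
    have h1 := congrArg (fun g => g.appTop (Red.gmFn u)) hc
    simp only [Scheme.Hom.comp_appTop, CommRingCat.comp_apply] at h1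
    rw [h0, map_one, map_one] at h1
    exact h1
  have hf1 : f = 1 := eq_of_forall_val fun q => by
    rw [show q = lift (q ≫ fst X' Y') (q ≫ snd X' Y') by simp [← comp_lift]]
    rw [val_eq_one hf eX' eY' hX hY]
    exact (map_one _).symm
  have hπu : πk ≫ u = πk ≫ 1 := GmPts.gmFn_injective (by
    change Red.gmFn (πk ≫ u) = Red.gmFn (πk ≫ 1)
    rw [GmPts.gmFn_comp, GmPts.gmFn_comp, GmPts.gmFn_one, map_one]
    exact hf1)
  refine Over.OverMorphism.ext ((cancel_epi π).1 ?_)
  exact congrArg CommaMorphism.left hπu

end Groth.Agent.UnitsAxes
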